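import Groth.Agent.S1216
import Mathlib

/-!
# Local rings over a valuation ring with integral closed fibre
-/

set_option autoImplicit false

universe u

namespace Groth.Agent.H7Val

variable {A B : Type u} [CommRing A] [IsDomain A] [ValuationRing A] [CommRing B] [IsLocalRing B]
  [Algebra A B] [IsLocalHom (algebraMap A B)] [Algebra.EssFiniteType A B] [Module.Flat A B]

/-- Nonzero elements are a scalar times an element nonzero on the closed fibre. -/
theorem exists_eq_mul_notMem (x : B) (hx : x ≠ 0) :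
    ∃ (c : A) (y : B), c ≠ 0 ∧ y ∉ (IsLocalRing.maximalIdeal A).map (algebraMap A B) ∧
      x = algebraMap A B c * y := by
  have hsmul : ∀ (J : Ideal A) (z : B), z ∈ J • (⊤ : Submodule A B) ↔
      z ∈ J.map (algebraMap A B) := by
    intro J z
    rw [Ideal.smul_top_eq_map, Submodule.restrictScalars_mem]
  obtain ⟨I, ⟨a, rfl⟩, hxI, hmin⟩ := S1216.result (A := A) (B := B) B x
  rw [hsmul, Ideal.submodule_span_eq, Ideal.map_span, Set.image_singleton,
    Ideal.mem_span_singleton'] at hxI
  obtain ⟨y, rfl⟩ := hxI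
  have ha : a ≠ 0 := fun h ↦ hx (by simp [h])
  refine ⟨a, y, ha, fun hym ↦ ?_, mul_comm _ _⟩
  have hle : Ideal.span {a} ≤ Ideal.span {a} * IsLocalRing.maximalIdeal A := by
    refine hmin _ ((hsmul _ _).mpr ?_)
    rw [Ideal.map_mul, mul_comm y]
    exact Ideal.mul_mem_mul (Ideal.mem_map_of_mem _ (Ideal.mem_span_singleton_self a)) hym
  obtain ⟨m, hm, hm'⟩ := Ideal.mem_span_singleton_mul.mp (hle (Ideal.mem_span_singleton_self a))
  have hm1 : m = 1 := mul_left_cancel₀ ha (hm'.trans (mul_one a).symm)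
  exact (IsLocalRing.maximalIdeal.isMaximal A).ne_top
    ((Ideal.eq_top_iff_one _).mpr (hm1 ▸ hm))

omit [ValuationRing A] [IsLocalRing B] [IsLocalHom (algebraMap A B)]
  [Algebra.EssFiniteType A B] in
theorem eq_zero_of_algebraMap_mul {a : A} (ha : a ≠ 0) {y : B} (h : algebraMap A B a * y = 0) :
    y = 0 :=
  Module.Flat.isSMulRegular_of_nonZeroDivisors (mem_nonZeroDivisors_of_ne_zero ha)
    (show a • y = a • (0 : B) by rw [smul_zero, Algebra.smul_def]; exact h)

variable (hP : ∀ x y : B, x * y ∈ (IsLocalRing.maximalIdeal A).map (algebraMap A B) →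
  x ∈ (IsLocalRing.maximalIdeal A).map (algebraMap A B) ∨
    y ∈ (IsLocalRing.maximalIdeal A).map (algebraMap A B))

include hP in
/-- With integral closed fibre the ring is a domain. -/
theorem isDomain_of_closedFibre : IsDomain B := by
  have : NoZeroDivisors B := by
    refine ⟨fun {x x'} h ↦ ?_⟩
    by_contra hne
    rw [not_or] at hne
    obtain ⟨c, y, hc, hy, rfl⟩ := exists_eq_mul_notMem (A := A) x hne.1
    obtain ⟨c', y', hc', hy', rfl⟩ := exists_eq_mul_notMem (A := A) x' hne.2
    have h0 : y * y' = 0 := by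
      refine eq_zero_of_algebraMap_mul (mul_ne_zero hc hc') ?_
      rw [map_mul, ← h]
      ring
    exact (hP y y' (h0 ▸ zero_mem _)).elim hy hy'
  exact NoZeroDivisors.to_isDomain B

include hP in
/-- A divisor of a nonzero scalar is a scalar times a unit. -/
theorem exists_eq_scalar_mul_unit {b b' : B} {a₀ : A} (h0 : a₀ ≠ 0)
    (h : b * b' = algebraMap A B a₀) : ∃ c : A, c ≠ 0 ∧ ∃ u : Bˣ, b = algebraMap A B c * u := by
  have hmap : ∀ d ∈ IsLocalRing.maximalIdeal A, ∀ z : B,
      algebraMap A B d * z ∈ (IsLocalRing.maximalIdeal A).map (algebraMap A B) :=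
    fun d hd z ↦ Ideal.mul_mem_right _ _ (Ideal.mem_map_of_mem _ hd)
  have h0' : algebraMap A B a₀ ≠ 0 := fun e ↦
    one_ne_zero (eq_zero_of_algebraMap_mul h0 (show algebraMap A B a₀ * (1 : B) = 0 by rw [e, zero_mul]))
  have hb : b ≠ 0 := fun e ↦ h0' (by rw [← h, e, zero_mul])
  have hb' : b' ≠ 0 := fun e ↦ h0' (by rw [← h, e, mul_zero])
  obtain ⟨c, y, hc, hy, rfl⟩ := exists_eq_mul_notMem (A := A) b hb
  obtain ⟨c', y', hc', hy', rfl⟩ := exists_eq_mul_notMem (A := A) b' hb'
  refine ⟨c, hc, ?_⟩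
  suffices IsUnit y from ⟨this.unit, rfl⟩
  obtain ⟨d, hd | hd⟩ := ValuationRing.cond (c * c') a₀
  · have e : y * y' = algebraMap A B d := by
      refine sub_eq_zero.mp (eq_zero_of_algebraMap_mul (mul_ne_zero hc hc') ?_)
      rw [mul_sub, sub_eq_zero, ← map_mul _ (c * c') d, hd, ← h, map_mul]
      ring
    have hdu : IsUnit d := by
      by_contra hdu
      refine (hP y y' ?_).elim hy hy'
      simpa [e] using hmap d ((IsLocalRing.mem_maximalIdeal d).mpr hdu) 1
    exact isUnit_of_mul_isUnit_left (e ▸ hdu.map (algebraMap A B))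
  · have e : algebraMap A B d * (y * y') = 1 := by
      refine sub_eq_zero.mp (eq_zero_of_algebraMap_mul h0 ?_)
      rw [mul_sub, mul_one, sub_eq_zero, ← mul_assoc, ← map_mul, hd, ← h, map_mul]
      ring
    exact IsUnit.of_mul_eq_one (algebraMap A B d * y') (by rw [← e]; ring)

end Groth.Agent.H7Val
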