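import Mathlib

/-!
# Irreducibility of specializations of a geometrically irreducible polynomial
-/

set_option autoImplicit false

universe u

open MvPolynomial

namespace Groth.Agent.H7Val.IrredSpec

variable {A : Type u} [CommRing A] [IsDomain A] {n : ℕ}

/-- The monomials of bounded degree. -/
noncomputable def monos (n d : ℕ) : Finset (Fin n →₀ ℕ) :=
  (Finsupp.finite_of_degree_le (σ := Fin n) d).toFinset

theorem mem_monos {n d : ℕ} {m : Fin n →₀ ℕ} : m ∈ monos n d ↔ m.degree ≤ d := by
  simp [monos]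

theorem degree_le_totalDegree {R : Type u} [CommSemiring R] {P : MvPolynomial (Fin n) R}
    {m : Fin n →₀ ℕ} (h : P.coeff m ≠ 0) : m.degree ≤ P.totalDegree :=
  MvPolynomial.le_totalDegree (mem_support_iff.mpr h)

/-- A polynomial with prescribed bounded coefficients. -/
noncomputable def poly {R : Type u} [CommRing R] (s : Finset (Fin n →₀ ℕ)) (c : s → R) :
    MvPolynomial (Fin n) R :=
  ∑ m : s, monomial m.1 (c m)

theorem map_poly {R R' : Type u} [CommRing R] [CommRing R'] (φ : R →+* R')
    (s : Finset (Fin n →₀ ℕ)) (c : s → R) :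
    MvPolynomial.map φ (poly s c) = poly s (φ ∘ c) := by
  simp [poly]

theorem totalDegree_poly_le {R : Type u} [CommRing R] (d : ℕ) (c : monos n d → R) :
    (poly (monos n d) c).totalDegree ≤ d := by
  refine totalDegree_finsetSum_le fun m _ ↦ ?_
  exact (totalDegree_monomial_le _ _).trans (mem_monos.mp m.2)

theorem poly_coeff {R : Type u} [CommRing R] {d : ℕ} {P : MvPolynomial (Fin n) R}
    (h : P.totalDegree ≤ d) : poly (monos n d) (fun m ↦ P.coeff m.1) = P := by
  classical
  ext m
  simp only [poly, coeff_sum, coeff_monomial]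
  by_cases hm : m ∈ monos n d
  · rw [Finset.sum_eq_single ⟨m, hm⟩]
    · simp
    · intro b _ hb
      rw [if_neg fun e ↦ hb (Subtype.ext e)]
    · simp
  · rw [Finset.sum_eq_zero fun b _ ↦ if_neg fun (e : b.1 = m) ↦ hm (e ▸ b.2)]
    by_contra hne
    exact hm (mem_monos.mpr ((degree_le_totalDegree (Ne.symm hne)).trans h))

variable (P : MvPolynomial (Fin n) A)

/-- Factorizations of a fixed shape occur only over the zero locus of a nonzero element. -/
theorem exists_ne_zero_forall_not_factor {L : Type u} [Field L] [IsAlgClosed L] [Algebra A L]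
    (hinj : Function.Injective (algebraMap A L)) (d₁ d₂ : ℕ) (m₀ : monos n d₁)
    (hirr : ∀ g h : MvPolynomial (Fin n) L, g.totalDegree ≤ d₁ → h.totalDegree ≤ d₂ →
      g.coeff m₀.1 = 1 → MvPolynomial.map (algebraMap A L) P ≠ g * h) :
    ∃ s : A, s ≠ 0 ∧ ∀ (κ : Type u) [Field κ] (φ : A →+* κ), φ s ≠ 0 →
      ∀ g h : MvPolynomial (Fin n) κ, g.totalDegree ≤ d₁ → h.totalDegree ≤ d₂ →
        g.coeff m₀.1 = 1 → MvPolynomial.map φ P ≠ g * h := by
  classical
  let σ := (monos n d₁ : Type) ⊕ (monos n d₂ : Type)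
  let R := MvPolynomial σ A
  let G : MvPolynomial (Fin n) R := poly (monos n d₁) (fun m ↦ X (Sum.inl m))
  let H : MvPolynomial (Fin n) R := poly (monos n d₂) (fun m ↦ X (Sum.inr m))
  let E : MvPolynomial (Fin n) R := G * H - MvPolynomial.map C P
  let I : Ideal R := Ideal.span (Set.range (fun m ↦ E.coeff m) ∪ {X (Sum.inl m₀) - 1})
  let K := FractionRing A
  let inst : Algebra R (MvPolynomial σ K) := algebraMvPolynomial
  let J : Ideal (MvPolynomial σ K) := I.map (MvPolynomial.map (algebraMap A K))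
  have hJ : J = ⊤ := by
    by_contra hJ
    obtain ⟨M, hM, hJM⟩ := Ideal.exists_le_maximal J hJ
    let F := MvPolynomial σ K ⧸ M
    let : Field F := Ideal.Quotient.field M
    have : Algebra.FiniteType K F :=
      Algebra.FiniteType.of_surjective (Ideal.Quotient.mkₐ K M) Ideal.Quotient.mk_surjective
    have : Module.Finite K F := finite_of_finite_type_of_isJacobsonRing K F
    let : Algebra K L := (IsFractionRing.lift hinj).toAlgebra
    let emb : F →ₐ[K] L := IsAlgClosed.lift
    let ev : R →+* L := (emb.toRingHom.comp (Ideal.Quotient.mk M)).comp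
      (MvPolynomial.map (algebraMap A K))
    have hev : ∀ r ∈ I, ev r = 0 := by
      intro r hr
      have : MvPolynomial.map (algebraMap A K) r ∈ M := hJM (Ideal.mem_map_of_mem _ hr)
      simp [ev, Ideal.Quotient.eq_zero_iff_mem.mpr this]
    have hevC : ev.comp C = algebraMap A L := by
      ext a
      show emb (Ideal.Quotient.mk M (MvPolynomial.map (algebraMap A K) (C a))) = algebraMap A L a
      rw [show MvPolynomial.map (algebraMap A K) (C a : MvPolynomial σ A) = C (algebraMap A K a) from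
        MvPolynomial.map_C _ _]
      exact (emb.commutes _).trans (IsFractionRing.lift_algebraMap hinj a)
    have hm : ev (X (Sum.inl m₀)) = 1 := by
      have := hev _ (Ideal.subset_span (Set.mem_union_right _ rfl))
      simpa [sub_eq_zero] using this
    refine hirr (MvPolynomial.map ev G) (MvPolynomial.map ev H) ?_ ?_ ?_ ?_
    · rw [map_poly]; exact totalDegree_poly_le _ _
    · rw [map_poly]; exact totalDegree_poly_le _ _
    · rw [map_poly, poly, coeff_sum, Finset.sum_eq_single m₀]
      · simp [hm]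
      · intro b _ hb
        rw [coeff_monomial, if_neg fun e ↦ hb (Subtype.ext e)]
      · simp
    · have hE : MvPolynomial.map ev E = 0 := by
        ext m
        rw [coeff_map, coeff_zero]
        exact hev _ (Ideal.subset_span (Set.mem_union_left _ ⟨m, rfl⟩))
      rw [map_sub, map_mul, map_map, hevC, sub_eq_zero] at hE
      exact hE.symm
  have : IsLocalization ((nonZeroDivisors A).map (C (σ := σ))) (MvPolynomial σ K) :=
    MvPolynomial.isLocalization (nonZeroDivisors A) K
  have h1 : (1 : MvPolynomial σ K) ∈ I.map (algebraMap R (MvPolynomial σ K)) := by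
    show (1 : MvPolynomial σ K) ∈ J
    rw [hJ]; trivial
  obtain ⟨⟨⟨x, hx⟩, ⟨_, s, hs, rfl⟩⟩, he⟩ :=
    (IsLocalization.mem_map_algebraMap_iff ((nonZeroDivisors A).map (C (σ := σ)))
      (MvPolynomial σ K)).mp h1
  have hsI : C s ∈ I := by
    rw [one_mul] at he
    exact (MvPolynomial.map_injective _ (IsFractionRing.injective A K)
      (show MvPolynomial.map (algebraMap A K) (C s) = MvPolynomial.map (algebraMap A K) x from he)) ▸ hx
  refine ⟨s, nonZeroDivisors.ne_zero hs, fun κ _ φ hφ g h hg hh hgm e ↦ hφ ?_⟩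
  let ev : R →+* κ := eval₂Hom φ (Sum.elim (fun m ↦ g.coeff m.1) (fun m ↦ h.coeff m.1))
  have hevX : ∀ i, ev (X i) = Sum.elim (fun m ↦ g.coeff m.1) (fun m ↦ h.coeff m.1) i :=
    fun i ↦ eval₂_X _ _ _
  have hevC : ∀ a, ev (C a) = φ a := fun a ↦ eval₂_C _ _ _
  have hG : MvPolynomial.map ev G = g := by
    rw [map_poly]
    simpa [hevX, Function.comp_def] using poly_coeff hg
  have hH : MvPolynomial.map ev H = h := by
    rw [map_poly]
    simpa [hevX, Function.comp_def] using poly_coeff hh
  have hE : MvPolynomial.map ev E = 0 := by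
    rw [map_sub, map_mul, hG, hH, map_map, show ev.comp C = φ from RingHom.ext hevC, e, sub_self]
  have hI : I ≤ RingHom.ker ev := by
    rw [Ideal.span_le, Set.union_subset_iff]
    refine ⟨?_, ?_⟩
    · rintro _ ⟨m, rfl⟩
      simpa [coeff_map] using congr(($hE).coeff m)
    · rintro _ rfl
      simp [hevX, hgm]
  simpa [hevC] using hI hsI

/-- Irreducibility over an algebraically closed field spreads out. -/
theorem exists_ne_zero_forall_irreducible {L : Type u} [Field L] [IsAlgClosed L] [Algebra A L]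
    (hinj : Function.Injective (algebraMap A L))
    (hP : Irreducible (MvPolynomial.map (algebraMap A L) P)) :
    ∃ f : A, f ≠ 0 ∧ ∀ (κ : Type u) [Field κ] (φ : A →+* κ), φ f ≠ 0 →
      Irreducible (MvPolynomial.map φ P) := by
  classical
  set d := P.totalDegree
  have hdL : (MvPolynomial.map (algebraMap A L) P).totalDegree = d := by
    simp only [d, totalDegree, support_map_of_injective _ hinj]
  have hd : 0 < d := by
    by_contra h
    rw [not_lt, Nat.le_zero, ← hdL, totalDegree_eq_zero_iff_eq_C] at h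
    rw [h] at hP
    refine hP.not_isUnit (IsUnit.map C (Ne.isUnit fun h0 ↦ hP.ne_zero ?_))
    rw [h0, map_zero]
  have hP0 : P ≠ 0 := fun h ↦ hP.ne_zero (by simp [h])
  obtain ⟨mt, hmt, hmtd⟩ := Finset.exists_mem_eq_sup P.support (support_nonempty.mpr hP0)
    (fun s ↦ s.sum fun _ e ↦ e)
  have hmtd' : mt.degree = d := hmtd.symm
  have key : ∀ d₁ : Fin d, 0 < d₁.1 → ∀ m₀ : monos n d₁.1, m₀.1.degree = d₁.1 →
      ∀ g h : MvPolynomial (Fin n) L, g.totalDegree ≤ d₁.1 → h.totalDegree ≤ d - d₁.1 →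
      g.coeff m₀.1 = 1 → MvPolynomial.map (algebraMap A L) P ≠ g * h := by
    intro d₁ hpos m₀ hm₀ g h hg hh hgm e
    have hgh := hP.ne_zero
    rw [e, mul_ne_zero_iff] at hgh
    have hsum := totalDegree_mul_of_isDomain hgh.1 hgh.2
    rw [← e, hdL] at hsum
    have hlt := d₁.2
    rcases hP.isUnit_or_isUnit e with hu | hu
    · have h1 := ((isUnit_iff_totalDegree_of_isReduced).mp hu).2
      have := degree_le_totalDegree (P := g) (m := m₀.1) (by rw [hgm]; exact one_ne_zero)
      omega
    · have h1 := ((isUnit_iff_totalDegree_of_isReduced).mp hu).2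
      omega
  let T := (d₁ : Fin d) × {m₀ : monos n d₁.1 // 0 < d₁.1 ∧ m₀.1.degree = d₁.1}
  choose s hs0 hs using fun t : T ↦ exists_ne_zero_forall_not_factor P hinj t.1.1 (d - t.1.1) t.2.1
    (key t.1 t.2.2.1 t.2.1 t.2.2.2)
  refine ⟨P.coeff mt * ∏ t, s t, mul_ne_zero (mem_support_iff.mp hmt)
    (Finset.prod_ne_zero_iff.mpr fun t _ ↦ hs0 t), fun κ _ φ hφ ↦ ?_⟩
  rw [map_mul, map_prod, mul_ne_zero_iff, Finset.prod_ne_zero_iff] at hφ
  have hdκ : (MvPolynomial.map φ P).totalDegree = d := by
    refine le_antisymm (Finset.sup_mono (support_map_subset φ P)) ?_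
    rw [← hmtd']
    exact degree_le_totalDegree (by rw [coeff_map]; exact hφ.1)
  refine ⟨fun hu ↦ by have := ((isUnit_iff_totalDegree_of_isReduced).mp hu).2; omega, fun g h e ↦ ?_⟩
  have h0 : MvPolynomial.map φ P ≠ 0 := fun h ↦ by rw [h, totalDegree_zero] at hdκ; omega
  rw [e, mul_ne_zero_iff] at h0
  have hsum := totalDegree_mul_of_isDomain h0.1 h0.2
  rw [← e, hdκ] at hsum
  by_contra hne
  rw [not_or] at hne
  have unit_of : ∀ q : MvPolynomial (Fin n) κ, q ≠ 0 → q.totalDegree = 0 → IsUnit q := fun q hq hq0 ↦ by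
    obtain ⟨r, rfl⟩ : ∃ r, q = C r := ⟨_, totalDegree_eq_zero_iff_eq_C.mp hq0⟩
    exact (Ne.isUnit fun h0 ↦ hq (by rw [h0, map_zero])).map C
  have hg1 : 0 < g.totalDegree := Nat.pos_of_ne_zero fun h' ↦ hne.1 (unit_of g h0.1 h')
  have hh1 : 0 < h.totalDegree := Nat.pos_of_ne_zero fun h' ↦ hne.2 (unit_of h h0.2 h')
  obtain ⟨m, hm, hmd⟩ := Finset.exists_mem_eq_sup g.support (support_nonempty.mpr h0.1)
    (fun s ↦ s.sum fun _ e ↦ e)
  have hmd' : m.degree = g.totalDegree := hmd.symm
  let t : T := ⟨⟨g.totalDegree, by omega⟩, ⟨⟨m, mem_monos.mpr hmd'.le⟩, hg1, hmd'⟩⟩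
  have hc : g.coeff m ≠ 0 := mem_support_iff.mp hm
  refine hs t κ φ (hφ.2 t (Finset.mem_univ _)) (C (g.coeff m)⁻¹ * g) (C (g.coeff m) * h)
    ((totalDegree_mul _ _).trans (by simp [t])) ((totalDegree_mul _ _).trans (by simp [t]; omega))
    (by simp [t, coeff_C_mul, inv_mul_cancel₀ hc]) ?_
  rw [e, mul_mul_mul_comm, ← map_mul C, inv_mul_cancel₀ hc, map_one, one_mul]

end Groth.Agent.H7Val.IrredSpec
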