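import Groth.Agent.S1216
import Mathlib

/-!
# Reducedness of proper flat schemes over a valuation ring
-/

set_option autoImplicit false
set_option backward.isDefEq.respectTransparency false

universe u

open CategoryTheory Limits AlgebraicGeometry TensorProduct

namespace Groth.Agent.H7Val

/-- A flat algebra of finite type over a valuation ring with reduced closed fibre is reduced at the
primes over the closed point. -/
theorem isReduced_localization_of_closedFibre {A B : Type u} [CommRing A] [IsDomain A]
    [ValuationRing A] [CommRing B] [Algebra A B] [Algebra.FiniteType A B] [Module.Flat A B]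
    (hred : ∀ b : B, IsNilpotent b → b ∈ (IsLocalRing.maximalIdeal A).map (algebraMap A B))
    (q : Ideal B) [q.IsPrime] (hq : q.comap (algebraMap A B) = IsLocalRing.maximalIdeal A) :
    _root_.IsReduced (Localization.AtPrime q) := by
  let C := Localization.AtPrime q
  have : Algebra.EssFiniteType A C := Algebra.EssFiniteType.comp A B C
  have : Module.Flat B C := IsLocalization.flat C q.primeCompl
  have : Module.Flat A C := Module.Flat.trans A B C
  have : IsLocalHom (algebraMap A C) := by
    constructor
    intro a ha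
    by_contra h
    have hmem : algebraMap A B a ∈ q := by
      rw [← Ideal.mem_comap, hq]
      exact (IsLocalRing.mem_maximalIdeal a).mpr h
    rw [IsScalarTower.algebraMap_apply A B C] at ha
    exact (IsLocalization.AtPrime.isUnit_to_map_iff C q _).mp ha hmem
  have hsmul : ∀ (J : Ideal A) (z : C), z ∈ J • (⊤ : Submodule A C) ↔
      z ∈ J.map (algebraMap A C) := by
    intro J z
    rw [Ideal.smul_top_eq_map, Submodule.restrictScalars_mem]
  refine ⟨fun x hx ↦ ?_⟩
  obtain ⟨I, ⟨a, rfl⟩, hxI, hmin⟩ := S1216.result (A := A) (B := C) C x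
  by_contra hx0
  rw [hsmul, Ideal.submodule_span_eq, Ideal.map_span, Set.image_singleton,
    Ideal.mem_span_singleton'] at hxI
  obtain ⟨y, rfl⟩ := hxI
  have ha : a ≠ 0 := fun h ↦ hx0 (by simp [h])
  have hy : IsNilpotent y := by
    obtain ⟨n, hn⟩ := hx
    refine ⟨n, ?_⟩
    rw [mul_pow, ← map_pow, mul_comm, ← Algebra.smul_def] at hn
    exact Module.Flat.isSMulRegular_of_nonZeroDivisors
      (mem_nonZeroDivisors_of_ne_zero (pow_ne_zero n ha))
      (show a ^ n • y ^ n = a ^ n • (0 : C) by rw [hn, smul_zero])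
  have hym : y ∈ (IsLocalRing.maximalIdeal A).map (algebraMap A C) := by
    obtain ⟨⟨b, s⟩, rfl⟩ := IsLocalization.mk'_surjective q.primeCompl y
    obtain ⟨n, hn⟩ := hy
    dsimp only at hn ⊢
    rw [← IsLocalization.mk'_pow, IsLocalization.mk'_eq_zero_iff] at hn
    obtain ⟨t, ht⟩ := hn
    have h1 : ((t : B) * b) ∈ (IsLocalRing.maximalIdeal A).map (algebraMap A B) := by
      refine hred _ ⟨n + 1, ?_⟩
      rw [mul_pow, pow_succ' (t : B), pow_succ b,
        show (t : B) * (t : B) ^ n * (b ^ n * b) = ((t : B) * b ^ n) * ((t : B) ^ n * b) by ring,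
        ht, zero_mul]
    have h2 : algebraMap B C ((t : B) * b) ∈ (IsLocalRing.maximalIdeal A).map (algebraMap A C) := by
      rw [IsScalarTower.algebraMap_eq A B C, ← Ideal.map_map]
      exact Ideal.mem_map_of_mem _ h1
    have h3 : IsLocalization.mk' C b s = IsLocalization.mk' C 1 (t * s) * algebraMap B C ((t : B) * b) := by
      rw [mul_comm, IsLocalization.mul_mk'_eq_mk'_of_mul, mul_one, IsLocalization.mk'_eq_iff_eq]
      congr 1
      simp only [Submonoid.coe_mul]
      ring
    rw [h3]
    exact Ideal.mul_mem_left _ _ h2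
  have hle : Ideal.span {a} ≤ Ideal.span {a} * IsLocalRing.maximalIdeal A := by
    refine hmin _ ((hsmul _ _).mpr ?_)
    rw [Ideal.map_mul, mul_comm y]
    exact Ideal.mul_mem_mul (Ideal.mem_map_of_mem _ (Ideal.mem_span_singleton_self a)) hym
  obtain ⟨m, hm, hm'⟩ := Ideal.mem_span_singleton_mul.mp (hle (Ideal.mem_span_singleton_self a))
  have hm1 : m = 1 := by
    have := mul_left_cancel₀ ha (hm'.trans (mul_one a).symm)
    exact this
  exact (IsLocalRing.maximalIdeal.isMaximal A).ne_top
    ((Ideal.eq_top_iff_one _).mpr (hm1 ▸ hm))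

/-- Points of a scheme proper over a local ring specialize to the closed fibre. -/
theorem exists_specializes_closedPoint {A : Type u} [CommRing A] [IsLocalRing A] {X : Scheme.{u}}
    (f : X ⟶ Spec (CommRingCat.of A)) [IsProper f] (x : X) :
    ∃ z : X, f z = IsLocalRing.closedPoint A ∧ x ⤳ z := by
  have h : f x ⤳ IsLocalRing.closedPoint A := IsLocalRing.specializes_closedPoint _
  obtain ⟨z, hxz, hz⟩ := f.isClosedMap.specializingMap h
  exact ⟨z, hz, hxz⟩

/-- A proper flat scheme over a valuation ring with reduced closed fibre is reduced. -/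
theorem isReduced_of_closedFibre {A : Type u} [CommRing A] [IsDomain A] [ValuationRing A]
    {X : Scheme.{u}} (f : X ⟶ Spec (CommRingCat.of A)) [IsProper f] [Flat f] {κ : CommRingCat.{u}}
    (φ : CommRingCat.of A ⟶ κ) (hφ : RingHom.ker φ.hom = IsLocalRing.maximalIdeal A)
    (hred : IsReduced (pullback f (Spec.map φ))) : IsReduced X := by
  have key : ∀ z : X, f z = IsLocalRing.closedPoint A → _root_.IsReduced (X.presheaf.stalk z) := by
    intro z hz
    obtain ⟨V, hV, hzV, -⟩ := exists_isAffineOpen_mem_and_subset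
      (show z ∈ (⊤ : X.Opens) from trivial)
    obtain ⟨ρ, hρ⟩ := Spec.map_surjective (hV.fromSpec ≫ f)
    have : Flat (Spec.map ρ) := by rw [hρ]; infer_instance
    have hρfl : ρ.hom.Flat := HasRingHomProperty.Spec_iff.mp ‹Flat (Spec.map ρ)›
    have : LocallyOfFiniteType (Spec.map ρ) := by rw [hρ]; infer_instance
    have hρft : ρ.hom.FiniteType :=
      HasRingHomProperty.Spec_iff.mp ‹LocallyOfFiniteType (Spec.map ρ)›
    algebraize [ρ.hom, φ.hom]
    have hsq : IsPullback (Spec.map (CommRingCat.ofHom (Algebra.TensorProduct.includeLeftRingHom :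
        Γ(X, V) →+* Γ(X, V) ⊗[A] κ)))
        (Spec.map (CommRingCat.ofHom (Algebra.TensorProduct.includeRight (R := A) (A := Γ(X, V))
          (B := κ)).toRingHom)) (Spec.map ρ) (Spec.map φ) :=
      isPullback_SpecMap_of_isPushout _ _ _ _ (CommRingCat.isPushout_tensorProduct A Γ(X, V) κ)
    let e : Spec (CommRingCat.of (Γ(X, V) ⊗[A] κ)) ⟶ pullback f (Spec.map φ) :=
      hsq.isoPullback.hom ≫ pullback.map _ _ _ _ hV.fromSpec (𝟙 _) (𝟙 _) (by simp [hρ]) (by simp)
    have : IsOpenImmersion e := inferInstance
    have : IsReduced (Spec (CommRingCat.of (Γ(X, V) ⊗[A] κ))) := isReduced_of_isOpenImmersion e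
    have : _root_.IsReduced (Γ(X, V) ⊗[A] κ) :=
      (affine_isReduced_iff (CommRingCat.of (Γ(X, V) ⊗[A] κ))).1 inferInstance
    have hnil : ∀ b : Γ(X, V), IsNilpotent b →
        b ∈ (IsLocalRing.maximalIdeal A).map (algebraMap A Γ(X, V)) := by
      intro b hb
      have h0 : b ⊗ₜ[A] (1 : κ) = 0 :=
        (hb.map (Algebra.TensorProduct.includeLeftRingHom : Γ(X, V) →+* Γ(X, V) ⊗[A] κ)).eq_zero
      let ψ : (A ⧸ IsLocalRing.maximalIdeal A) →ₗ[A] κ :=
        Submodule.liftQ _ (Algebra.linearMap A κ) (le_of_eq hφ.symm)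
      have hψ : Function.Injective ψ := by
        rw [← LinearMap.ker_eq_bot]
        exact Submodule.ker_liftQ_eq_bot _ _ _ (le_of_eq hφ)
      have h1 : b ⊗ₜ[A] (Submodule.Quotient.mk (1 : A) : A ⧸ IsLocalRing.maximalIdeal A) = 0 := by
        refine Module.Flat.lTensor_preserves_injective_linearMap ψ hψ ?_
        rw [map_zero, LinearMap.lTensor_tmul]
        rw [show ψ (Submodule.Quotient.mk (1 : A)) = (1 : κ) from map_one φ.hom]
        exact h0
      have h2 := congr(TensorProduct.tensorQuotEquivQuotSMul Γ(X, V)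
        (IsLocalRing.maximalIdeal A) $h1)
      rw [map_zero] at h2
      have h3 : b ∈ (IsLocalRing.maximalIdeal A • ⊤ : Submodule A Γ(X, V)) := by
        rw [← Submodule.Quotient.mk_eq_zero, ← h2]
        simp [TensorProduct.tensorQuotEquivQuotSMul]
      rwa [Ideal.smul_top_eq_map, Submodule.restrictScalars_mem] at h3
    set q := hV.primeIdealOf ⟨z, hzV⟩
    have hq : q.asIdeal.comap (algebraMap A Γ(X, V)) = IsLocalRing.maximalIdeal A := by
      have hq' : PrimeSpectrum.comap ρ.hom q = IsLocalRing.closedPoint A := by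
        show (Spec.map ρ).base q = _
        rw [hρ, Scheme.Hom.comp_apply, IsAffineOpen.fromSpec_primeIdealOf]
        exact hz
      exact congr(PrimeSpectrum.asIdeal $hq')
    have := isReduced_localization_of_closedFibre hnil q.asIdeal hq
    letI := TopCat.Presheaf.algebra_section_stalk X.presheaf (⟨z, hzV⟩ : V)
    have := hV.isLocalization_stalk ⟨z, hzV⟩
    exact isReduced_of_injective
      (IsLocalization.algEquiv q.asIdeal.primeCompl (X.presheaf.stalk z)
        (Localization.AtPrime q.asIdeal)).toRingEquiv.toRingHom (RingEquiv.injective _)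
  have : ∀ x : X, _root_.IsReduced (X.presheaf.stalk x) := by
    intro x
    obtain ⟨z, hz, hxz⟩ := exists_specializes_closedPoint f x
    have := key z hz
    obtain ⟨V, hV, hzV, -⟩ := exists_isAffineOpen_mem_and_subset
      (show z ∈ (⊤ : X.Opens) from trivial)
    have hxV : x ∈ V := hxz.mem_open V.isOpen hzV
    letI := (X.presheaf.stalkSpecializes hxz).hom.toAlgebra
    letI := TopCat.Presheaf.algebra_section_stalk X.presheaf (⟨z, hzV⟩ : V)
    letI := TopCat.Presheaf.algebra_section_stalk X.presheaf (⟨x, hxV⟩ : V)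
    have := hV.isLocalization_stalk ⟨z, hzV⟩
    have := hV.isLocalization_stalk ⟨x, hxV⟩
    have hle : (hV.primeIdealOf ⟨z, hzV⟩).asIdeal.primeCompl ≤
        (hV.primeIdealOf ⟨x, hxV⟩).asIdeal.primeCompl := by
      refine fun s hs h1 ↦ hs ?_
      have : hV.primeIdealOf ⟨x, hxV⟩ ⤳ hV.primeIdealOf ⟨z, hzV⟩ := by
        rw [← hV.fromSpec.isOpenEmbedding.toIsEmbedding.isInducing.specializes_iff]
        simpa [IsAffineOpen.fromSpec_primeIdealOf] using hxz
      exact (PrimeSpectrum.asIdeal_le_asIdeal _ _).mpr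
        ((PrimeSpectrum.le_iff_specializes _ _).mpr this) h1
    have : IsScalarTower Γ(X, V) (X.presheaf.stalk z) (X.presheaf.stalk x) :=
      IsScalarTower.of_algebraMap_eq fun r ↦
        congr($(X.presheaf.germ_stalkSpecializes hzV hxz) r).symm
    have := IsLocalization.isLocalization_of_submonoid_le (X.presheaf.stalk z)
      (X.presheaf.stalk x) _ _ hle
    exact isReduced_localizationPreserves
      ((hV.primeIdealOf ⟨x, hxV⟩).asIdeal.primeCompl.map (algebraMap Γ(X, V) (X.presheaf.stalk z)))
      (X.presheaf.stalk x) ‹_›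
  exact isReduced_of_isReduced_stalk X

/-- A scheme with a flat preimmersion into a reduced scheme is reduced. -/
theorem isReduced_of_flat_preimmersion {Y X : Scheme.{u}} (g : Y ⟶ X) [Flat g] [IsPreimmersion g]
    [IsReduced X] : IsReduced Y := by
  have : ∀ y : Y, _root_.IsReduced (Y.presheaf.stalk y) := by
    intro y
    letI := (g.stalkMap y).hom.toAlgebra
    have hflat : Module.Flat (X.presheaf.stalk (g y)) (Y.presheaf.stalk y) := Flat.stalkMap g y
    have : IsLocalHom (algebraMap (X.presheaf.stalk (g y)) (Y.presheaf.stalk y)) :=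
      inferInstanceAs (IsLocalHom (g.stalkMap y).hom)
    have := Module.FaithfullyFlat.of_flat_of_isLocalHom (A := X.presheaf.stalk (g y))
      (B := Y.presheaf.stalk y)
    let e := RingEquiv.ofBijective (g.stalkMap y).hom
      ⟨FaithfulSMul.algebraMap_injective (X.presheaf.stalk (g y)) (Y.presheaf.stalk y),
        g.stalkMap_surjective y⟩
    exact isReduced_of_injective e.symm.toRingHom e.symm.injective
  exact isReduced_of_isReduced_stalk Y

end Groth.Agent.H7Val
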