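import Groth.Agent.H8Props.Stein.Connected
import Groth.Agent.H11GenFibre.Main
import Groth.Agent.H7Lim.Birational
import Mathlib

/-!
# Proper schemes over normal schemes with trivial functions on the generic fibre
-/

set_option autoImplicit false
set_option backward.isDefEq.respectTransparency false

universe u

open CategoryTheory Limits AlgebraicGeometry TopologicalSpace

namespace Groth.Agent.H7Val

variable {X S : Scheme.{u}} (f : X ⟶ S) [IsProper f] [IsIntegral S] [IsReduced X]
  (hN : ∀ y : S, IsIntegrallyClosed (S.presheaf.stalk y))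
  (hgen : ∀ Z ∈ irreducibleComponents ↑X, ∀ x : X, IsGenericPoint x Z → f x = genericPoint ↑S)
  (h0 : Function.Bijective ((f.fiberToSpecResidueField (genericPoint ↑S)).appTop))

include hgen in
/-- A function vanishing on the generic fibre is zero. -/
theorem eq_zero_of_genericFibre {V : X.Opens} (s : Γ(X, V))
    (e : ⊤ ≤ f.fiberι (genericPoint S) ⁻¹ᵁ V)
    (hs : (f.fiberι (genericPoint S)).appLE V ⊤ e s = 0) : s = 0 := by
  rw [← basicOpen_eq_bot_iff]
  by_contra hne
  obtain ⟨x, hx⟩ := (Opens.ne_bot_iff_nonempty _).mp hne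
  let Z := irreducibleComponent x
  obtain ⟨η', hη'⟩ := QuasiSober.sober (isIrreducible_irreducibleComponent (x := x))
    isClosed_irreducibleComponent
  have hη : f η' = genericPoint S := hgen Z (irreducibleComponent_mem_irreducibleComponents x) η' hη'
  have hmem : η' ∈ X.basicOpen s :=
    (hη'.specializes mem_irreducibleComponent).mem_open (X.basicOpen s).isOpen hx
  obtain ⟨z, rfl⟩ := (f.range_fiberι (genericPoint S)).ge
    (show η' ∈ f ⁻¹' {genericPoint S} from hη)
  have h1 : z ∈ f.fiberι (genericPoint S) ⁻¹ᵁ X.basicOpen s := hmem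
  rw [Scheme.preimage_basicOpen] at h1
  have h2 : z ∈ (f.fiber (genericPoint S)).basicOpen
      ((f.fiberι (genericPoint S)).appLE V ⊤ e s) := by
    rw [Scheme.Hom.appLE, CommRingCat.comp_apply, Scheme.basicOpen_res]
    exact ⟨trivial, h1⟩
  rw [hs, Scheme.basicOpen_zero] at h2
  exact h2

include hN hgen h0 in
/-- The structure sheaf of the base is the pushforward. -/
theorem bijective_app_of_isAffineOpen {U : S.Opens} (hU : IsAffineOpen U) :
    Function.Bijective (f.app U) := by
  rcases isEmpty_or_nonempty U with hU0 | hU0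
  · have hb : U = ⊥ := by
      rw [← Opens.not_nonempty_iff_eq_bot]
      exact fun ⟨x, hx⟩ ↦ hU0.false ⟨x, hx⟩
    subst hb
    have h1 : Subsingleton Γ(S, ⊥) := CommRingCat.subsingleton_of_isTerminal S.sheaf.isTerminalOfEmpty
    have h2 : Subsingleton Γ(X, f ⁻¹ᵁ ⊥) := by
      rw [Scheme.Hom.preimage_bot]
      exact CommRingCat.subsingleton_of_isTerminal X.sheaf.isTerminalOfEmpty
    exact ⟨fun a b _ ↦ Subsingleton.elim _ _, fun b ↦ ⟨0, Subsingleton.elim _ _⟩⟩
  set η := genericPoint S with hηdef
  have hηU : η ∈ U := by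
    obtain ⟨⟨x, hx⟩⟩ := hU0
    exact ((genericPoint_spec S).specializes (Set.mem_univ x)).mem_open U.isOpen hx
  let ι := f.fiberι η
  let snd := f.fiberToSpecResidueField η
  have e₀ : (⊤ : (Spec (S.residueField η)).Opens) ≤ S.fromSpecResidueField η ⁻¹ᵁ U := fun s _ ↦ by
    show S.fromSpecResidueField η s ∈ U
    rw [Scheme.fromSpecResidueField_apply]; exact hηU
  have e₁ : (⊤ : (f.fiber η).Opens) ≤ ι ⁻¹ᵁ (f ⁻¹ᵁ U) := by
    intro z _
    show f (ι z) ∈ U
    have hz : f (ι z) = η := (f.range_fiberι η).le ⟨z, rfl⟩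
    rw [hz]; exact hηU
  have hres : Function.Bijective (S.residue η) := by
    letI := (H11GenFibre.isField_generic' S).toField
    exact ⟨(S.residue η).hom.injective, S.residue_surjective η⟩
  let ψ : S.presheaf.stalk η →+* Γ(f.fiber η, ⊤) :=
    snd.appTop.hom.comp ((Scheme.ΓSpecIso (S.residueField η)).inv.hom.comp (S.residue η).hom)
  have hψ : Function.Bijective ψ :=
    h0.comp ((ConcreteCategory.bijective_of_isIso (Scheme.ΓSpecIso (S.residueField η)).inv).comp hres)
  have hcomm : ∀ r : Γ(S, U), ι.appLE (f ⁻¹ᵁ U) ⊤ e₁ (f.app U r) =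
      ψ (S.presheaf.germ U η hηU r) := by
    intro r
    have h1 : (ι ≫ f).appLE U ⊤ e₁ = (snd ≫ S.fromSpecResidueField η).appLE U ⊤
        (fun s _ ↦ e₀ (show snd s ∈ (⊤ : (Spec (S.residueField η)).Opens) from trivial)) := by
      congr 1
      exact pullback.condition
    have h2 := congr($h1 r)
    rw [← Scheme.Hom.appLE_comp_appLE snd (S.fromSpecResidueField η) U ⊤ ⊤ e₀ le_top,
      ← Scheme.Hom.appLE_comp_appLE ι f U (f ⁻¹ᵁ U) ⊤ le_rfl e₁,
      H11GenFibre.fromSpecResidueField_appLE U η hηU e₀] at h2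
    simp only [CommRingCat.comp_apply, Scheme.Hom.appLE_eq_app] at h2
    rw [show snd.appLE ⊤ ⊤ le_top = snd.appTop by simp [Scheme.Hom.appLE]] at h2
    exact h2
  have hfint : (f.app U).hom.IsIntegral := by
    rw [show f.app U = f.fromNormalization.app U ≫ f.toNormalization.app (f.fromNormalization ⁻¹ᵁ U) ≫
        X.presheaf.map (eqToHom (by rw [← Scheme.Hom.comp_preimage, f.toNormalization_fromNormalization])).op by
      rw [← Category.assoc, ← Scheme.Hom.comp_app]
      exact Scheme.Hom.congr_app f.toNormalization_fromNormalization.symm U]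
    have := H10ZMT.isIso_app_toNormalization f (f.fromNormalization ⁻¹ᵁ U)
    exact RingHom.IsIntegral.trans _ _ (f.fromNormalization.isIntegral_app U hU)
      (RingHom.isIntegral_of_surjective _ (ConcreteCategory.bijective_of_isIso
        (f.toNormalization.app (f.fromNormalization ⁻¹ᵁ U) ≫ X.presheaf.map (eqToHom _).op)).2)
  have := H7Lim.isIntegrallyClosed_section hN hU
  have : IsFractionRing Γ(S, U) S.functionField := functionField_isFractionRing_of_isAffineOpen S U hU
  have hinjK : Function.Injective (S.presheaf.germ U η hηU) := germ_injective_of_isIntegral S _ _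
  refine ⟨fun a b hab ↦ hinjK (hψ.1 ?_), fun s ↦ ?_⟩
  · rw [← hcomm, ← hcomm, hab]
  obtain ⟨k, hk⟩ := hψ.2 (ι.appLE (f ⁻¹ᵁ U) ⊤ e₁ s)
  obtain ⟨p, hp, hps⟩ := hfint s
  have hker : p.eval₂ (S.presheaf.germ U η hηU).hom k = 0 := by
    refine hψ.1 ?_
    rw [map_zero, Polynomial.hom_eval₂, hk,
      show ψ.comp (S.presheaf.germ U η hηU).hom = (ι.appLE (f ⁻¹ᵁ U) ⊤ e₁).hom.comp (f.app U).hom from
        RingHom.ext fun r ↦ (hcomm r).symm, ← Polynomial.hom_eval₂, hps, map_zero]
  obtain ⟨r, hr⟩ := IsIntegrallyClosed.algebraMap_eq_of_integral (R := Γ(S, U))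
    (K := S.functionField) (x := k) ⟨p, hp, hker⟩
  refine ⟨r, sub_eq_zero.mp (eq_zero_of_genericFibre f hgen _ e₁ ?_)⟩
  rw [map_sub, hcomm, sub_eq_zero, ← hk]
  exact congrArg ψ hr

include hN hgen h0 in
theorem isIso_fromNormalization : IsIso f.fromNormalization := by
  have key : ∀ U : S.affineOpens, IsIso (f.fromNormalization ∣_ U.1) := by
    intro U
    have : IsAffine U.1 := U.2
    have : IsAffine (f.fromNormalization ⁻¹ᵁ U.1).toScheme := U.2.preimage _
    have h1 : Function.Bijective (f.app U.1) := bijective_app_of_isAffineOpen f hN hgen h0 U.2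
    rw [Scheme.Hom.congr_app f.toNormalization_fromNormalization.symm U.1, Scheme.Hom.comp_app,
      Category.assoc] at h1
    have := H10ZMT.isIso_app_toNormalization f (f.fromNormalization ⁻¹ᵁ U.1)
    have h2 : IsIso (f.fromNormalization.app U.1) := by
      rw [ConcreteCategory.isIso_iff_bijective]
      exact (Function.Bijective.of_comp_iff' (ConcreteCategory.bijective_of_isIso
        (f.toNormalization.app (f.fromNormalization ⁻¹ᵁ U.1) ≫ X.presheaf.map (eqToHom _).op)) _).mp h1
    refine (HasAffineProperty.iff_of_isAffine (P := MorphismProperty.isomorphisms Scheme)).mpr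
      ⟨inferInstance, ?_⟩
    rw [morphismRestrict_appTop]
    have : IsIso (f.fromNormalization.app (U.1.ι ''ᵁ ⊤)) := by
      rw [U.1.ι_image_top]; exact h2
    infer_instance
  exact (IsZariskiLocalAtTarget.of_iSup_eq_top (P := MorphismProperty.isomorphisms Scheme)
    _ (iSup_affineOpens_eq_top S) key : _)

end Groth.Agent.H7Val
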