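import Groth.Agent.H7Val.ContentDomain
import Groth.Agent.H7Val.ReducedFibre
import Groth.Agent.H11GenFibre.Main
import Groth.Agent.H11Ample.Ample
import Groth.Agent.S0436

/-!
# Invertible modules trivial on the generic fibre over a valuation ring
-/

set_option autoImplicit false
set_option linter.style.haveILetI false
set_option backward.isDefEq.respectTransparency false

universe u

open CategoryTheory Limits AlgebraicGeometry TopologicalSpace Opposite TensorProduct
open Groth.Agent.H11Tilde Groth.Agent.H11GenFibre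

namespace Groth.Agent.H7Val

variable {A : Type u} [CommRing A] [IsDomain A] [ValuationRing A] {X : Scheme.{u}}
  (f : X ⟶ Spec (CommRingCat.of A))

/-- The scalars of the base in a stalk. -/
noncomputable def scalar (x : X) : A →+* X.presheaf.stalk x :=
  (f.stalkMap x).hom.comp (((Spec (CommRingCat.of A)).presheaf.germ ⊤ (f x) trivial).hom.comp
    (Scheme.ΓSpecIso (CommRingCat.of A)).inv.hom)

theorem scalar_eq {V : X.Opens} (hV : IsAffineOpen V) {x : X} (hx : x ∈ V)
    (ρ : CommRingCat.of A ⟶ Γ(X, V)) (hρ : Spec.map ρ = hV.fromSpec ≫ f) (a : A) :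
    scalar f x a = X.presheaf.germ V x hx (ρ a) := by
  have e : ρ = (Scheme.ΓSpecIso (CommRingCat.of A)).inv ≫ f.appLE ⊤ V le_top := by
    apply Spec.map_injective
    rw [hρ, Spec.map_comp, ← IsAffineOpen.SpecMap_appLE_fromSpec f (isAffineOpen_top _) hV le_top,
      IsAffineOpen.fromSpec_top, Scheme.isoSpec_Spec_inv]
  rw [e]
  simp only [scalar, RingHom.comp_apply, CommRingCat.comp_apply, Scheme.Hom.germ_stalkMap_apply]
  exact (TopCat.Presheaf.germ_res_apply X.presheaf (homOfLE (show V ≤ f ⁻¹ᵁ ⊤ from le_top)) x hx _).symm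

theorem exists_germ_scalar (y : Spec (CommRingCat.of A)) (hy : y = IsLocalRing.closedPoint A)
    (r : (Spec (CommRingCat.of A)).presheaf.stalk y) :
    ∃ a : A, (Spec (CommRingCat.of A)).presheaf.germ ⊤ y trivial
      ((Scheme.ΓSpecIso (CommRingCat.of A)).inv a) = r := by
  subst hy
  refine ⟨(stalkClosedPointIso (CommRingCat.of A)).hom r, ?_⟩
  have h := congr($((stalkClosedPointIso (CommRingCat.of A)).hom_inv_id) r)
  rw [stalkClosedPointIso_inv] at h
  exact h

theorem isUnit_of_germ_closedPoint (y : Spec (CommRingCat.of A))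
    (hy : y = IsLocalRing.closedPoint A) (a : A)
    (h : IsUnit ((Spec (CommRingCat.of A)).presheaf.germ ⊤ y trivial
      ((Scheme.ΓSpecIso (CommRingCat.of A)).inv a))) : IsUnit a := by
  subst hy
  have e : (stalkClosedPointIso (CommRingCat.of A)).inv a = (Spec (CommRingCat.of A)).presheaf.germ ⊤
      (IsLocalRing.closedPoint A) trivial ((Scheme.ΓSpecIso (CommRingCat.of A)).inv a) := by
    rw [stalkClosedPointIso_inv]; rfl
  rw [← e] at h
  have h2 := h.map (stalkClosedPointIso (CommRingCat.of A)).hom.hom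
  rwa [show (stalkClosedPointIso (CommRingCat.of A)).hom.hom
      ((stalkClosedPointIso (CommRingCat.of A)).inv a) = a from
    congr($((stalkClosedPointIso (CommRingCat.of A)).inv_hom_id) a)] at h2

variable [IsProper f] [Flat f] (hint : IsIntegral (f.fiber (IsLocalRing.closedPoint A)))

include hint in
theorem closedFibre_cond {V : X.Opens} (hV : IsAffineOpen V) (ρ : CommRingCat.of A ⟶ Γ(X, V))
    (hρ : Spec.map ρ = hV.fromSpec ≫ f) (x y : Γ(X, V))
    (hxy : x * y ∈ (IsLocalRing.maximalIdeal A).map ρ.hom) :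
    x ∈ (IsLocalRing.maximalIdeal A).map ρ.hom ∨ y ∈ (IsLocalRing.maximalIdeal A).map ρ.hom := by
  obtain ⟨φ, hφ⟩ := Spec.map_surjective
    ((Spec (CommRingCat.of A)).fromSpecResidueField (IsLocalRing.closedPoint A))
  have hker : RingHom.ker φ.hom = IsLocalRing.maximalIdeal A := by
    have hp : PrimeSpectrum.comap φ.hom ⊥ = IsLocalRing.closedPoint A := by
      have : (Spec.map φ).base
          (⊥ : PrimeSpectrum ((Spec (CommRingCat.of A)).residueField (IsLocalRing.closedPoint A))) =
          IsLocalRing.closedPoint A := by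
        rw [hφ]; exact Scheme.fromSpecResidueField_apply _ _
      exact this
    rw [RingHom.ker_eq_comap_bot]
    exact congr(PrimeSpectrum.asIdeal $hp)
  let κ := (Spec (CommRingCat.of A)).residueField (IsLocalRing.closedPoint A)
  algebraize [ρ.hom, φ.hom]
  have : IsIntegral (pullback f (Spec.map φ)) := by rw [hφ]; exact hint
  have hsq : IsPullback (Spec.map (CommRingCat.ofHom (Algebra.TensorProduct.includeLeftRingHom :
      Γ(X, V) →+* Γ(X, V) ⊗[A] κ)))
      (Spec.map (CommRingCat.ofHom (Algebra.TensorProduct.includeRight (R := A) (A := Γ(X, V))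
        (B := κ)).toRingHom)) (Spec.map ρ) (Spec.map φ) :=
    isPullback_SpecMap_of_isPushout _ _ _ _ (CommRingCat.isPushout_tensorProduct A Γ(X, V) κ)
  let e : Spec (CommRingCat.of (Γ(X, V) ⊗[A] κ)) ⟶ pullback f (Spec.map φ) :=
    hsq.isoPullback.hom ≫ pullback.map _ _ _ _ hV.fromSpec (𝟙 _) (𝟙 _) (by simp [hρ]) (by simp)
  have : IsOpenImmersion e := inferInstance
  have hzero : ∀ b : Γ(X, V), b ⊗ₜ[A] (1 : κ) = 0 →
      b ∈ (IsLocalRing.maximalIdeal A).map (algebraMap A Γ(X, V)) := by
    intro b h0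
    have hflat : Module.Flat A Γ(X, V) := by
      have : Flat (Spec.map ρ) := by rw [hρ]; infer_instance
      exact HasRingHomProperty.Spec_iff.mp ‹Flat (Spec.map ρ)›
    let ψ : (A ⧸ IsLocalRing.maximalIdeal A) →ₗ[A] κ :=
      Submodule.liftQ _ (Algebra.linearMap A κ) (le_of_eq hker.symm)
    have hψ : Function.Injective ψ := by
      rw [← LinearMap.ker_eq_bot]
      exact Submodule.ker_liftQ_eq_bot _ _ _ (le_of_eq hker)
    have h1 : b ⊗ₜ[A] (Submodule.Quotient.mk (1 : A) : A ⧸ IsLocalRing.maximalIdeal A) = 0 := by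
      refine Module.Flat.lTensor_preserves_injective_linearMap ψ hψ ?_
      rw [map_zero, LinearMap.lTensor_tmul]
      rw [show ψ (Submodule.Quotient.mk (1 : A)) = (1 : κ) from map_one φ.hom]
      exact h0
    have h2 := congr(TensorProduct.tensorQuotEquivQuotSMul Γ(X, V)
      (IsLocalRing.maximalIdeal A) $h1)
    rw [map_zero] at h2
    have h3 : b ∈ (IsLocalRing.maximalIdeal A • ⊤ : Submodule A Γ(X, V)) := by
      rw [← Submodule.Quotient.mk_eq_zero, ← h2]
      simp [TensorProduct.tensorQuotEquivQuotSMul]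
    rwa [Ideal.smul_top_eq_map, Submodule.restrictScalars_mem] at h3
  have h0 : (x * y) ⊗ₜ[A] (1 : κ) = 0 := by
    have hle : (IsLocalRing.maximalIdeal A).map (algebraMap A Γ(X, V)) ≤
        RingHom.ker (Algebra.TensorProduct.includeLeftRingHom : Γ(X, V) →+* Γ(X, V) ⊗[A] κ) := by
      rw [Ideal.map_le_iff_le_comap]
      intro a ha
      show algebraMap A Γ(X, V) a ⊗ₜ[A] (1 : κ) = 0
      rw [Algebra.algebraMap_eq_smul_one, TensorProduct.smul_tmul, ← Algebra.algebraMap_eq_smul_one]
      have h : algebraMap A κ a = 0 := RingHom.mem_ker.mp (show a ∈ RingHom.ker φ.hom by rw [hker]; exact ha)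
      rw [h, TensorProduct.tmul_zero]
    exact hle hxy
  rcases subsingleton_or_nontrivial (Γ(X, V) ⊗[A] κ) with h | h
  · exact Or.inl (hzero x (Subsingleton.elim _ _))
  · have : Nonempty (Spec (CommRingCat.of (Γ(X, V) ⊗[A] κ))) :=
      inferInstanceAs (Nonempty (PrimeSpectrum (Γ(X, V) ⊗[A] κ)))
    have : IsIntegral (Spec (CommRingCat.of (Γ(X, V) ⊗[A] κ))) := isIntegral_of_isOpenImmersion e
    have : _root_.IsDomain (Γ(X, V) ⊗[A] κ) :=
      (affine_isIntegral_iff (CommRingCat.of (Γ(X, V) ⊗[A] κ))).1 inferInstance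
    rw [← mul_one (1 : κ), ← Algebra.TensorProduct.tmul_mul_tmul] at h0
    exact (mul_eq_zero.mp h0).imp (hzero x) (hzero y)

include hint in
/-- The local algebra at a point of the closed fibre. -/
theorem stalk_facts (z : X) (hz : f z = IsLocalRing.closedPoint A) :
    _root_.IsDomain (X.presheaf.stalk z) ∧
    (∀ (b b' : X.presheaf.stalk z) (a₀ : A), a₀ ≠ 0 → b * b' = scalar f z a₀ →
      ∃ c : A, c ≠ 0 ∧ ∃ u : (X.presheaf.stalk z)ˣ, b = scalar f z c * u) := by
  obtain ⟨V, hV, hzV, -⟩ := exists_isAffineOpen_mem_and_subset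
    (show z ∈ (⊤ : X.Opens) from trivial)
  obtain ⟨ρ, hρ⟩ := Spec.map_surjective (hV.fromSpec ≫ f)
  have : Flat (Spec.map ρ) := by rw [hρ]; infer_instance
  have hρfl : ρ.hom.Flat := HasRingHomProperty.Spec_iff.mp ‹Flat (Spec.map ρ)›
  have : LocallyOfFiniteType (Spec.map ρ) := by rw [hρ]; infer_instance
  have hρft : ρ.hom.FiniteType :=
    HasRingHomProperty.Spec_iff.mp ‹LocallyOfFiniteType (Spec.map ρ)›
  algebraize [ρ.hom]
  letI := TopCat.Presheaf.algebra_section_stalk X.presheaf (⟨z, hzV⟩ : V)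
  letI : Algebra A (X.presheaf.stalk z) := (scalar f z).toAlgebra
  have : IsScalarTower A Γ(X, V) (X.presheaf.stalk z) :=
    IsScalarTower.of_algebraMap_eq fun a ↦ scalar_eq f hV hzV ρ hρ a
  set q := hV.primeIdealOf ⟨z, hzV⟩
  have := hV.isLocalization_stalk ⟨z, hzV⟩
  have hq : q.asIdeal.comap (algebraMap A Γ(X, V)) = IsLocalRing.maximalIdeal A := by
    have hq' : PrimeSpectrum.comap ρ.hom q = IsLocalRing.closedPoint A := by
      show (Spec.map ρ).base q = _
      rw [hρ, Scheme.Hom.comp_apply, IsAffineOpen.fromSpec_primeIdealOf]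
      exact hz
    exact congr(PrimeSpectrum.asIdeal $hq')
  have : Algebra.EssFiniteType Γ(X, V) (X.presheaf.stalk z) :=
    Algebra.EssFiniteType.of_isLocalization _ q.asIdeal.primeCompl
  have : Algebra.EssFiniteType A (X.presheaf.stalk z) :=
    Algebra.EssFiniteType.comp A Γ(X, V) (X.presheaf.stalk z)
  have : Module.Flat Γ(X, V) (X.presheaf.stalk z) := IsLocalization.flat _ q.asIdeal.primeCompl
  have : Module.Flat A (X.presheaf.stalk z) := Module.Flat.trans A Γ(X, V) _
  have : IsLocalHom (algebraMap A (X.presheaf.stalk z)) := by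
    constructor
    intro a ha
    by_contra h
    rw [IsScalarTower.algebraMap_apply A Γ(X, V) (X.presheaf.stalk z),
      IsLocalization.AtPrime.isUnit_to_map_iff (X.presheaf.stalk z) q.asIdeal] at ha
    refine ha ?_
    refine Ideal.mem_comap.mp (hq.ge ?_)
    exact (IsLocalRing.mem_maximalIdeal a).mpr h
  have hP : ∀ x y : X.presheaf.stalk z,
      x * y ∈ (IsLocalRing.maximalIdeal A).map (algebraMap A (X.presheaf.stalk z)) →
      x ∈ (IsLocalRing.maximalIdeal A).map (algebraMap A (X.presheaf.stalk z)) ∨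
        y ∈ (IsLocalRing.maximalIdeal A).map (algebraMap A (X.presheaf.stalk z)) := by
    rw [IsScalarTower.algebraMap_eq A Γ(X, V) (X.presheaf.stalk z), ← Ideal.map_map]
    intro x y hxy
    obtain ⟨⟨b, s⟩, rfl⟩ := IsLocalization.mk'_surjective q.asIdeal.primeCompl x
    obtain ⟨⟨b', s'⟩, rfl⟩ := IsLocalization.mk'_surjective q.asIdeal.primeCompl y
    dsimp only at hxy ⊢
    rw [← IsLocalization.mk'_mul, IsLocalization.mk'_mem_map_algebraMap_iff] at hxy
    simp only [IsLocalization.mk'_mem_map_algebraMap_iff]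
    obtain ⟨t, ht, htxy⟩ := hxy
    rw [← mul_assoc] at htxy
    exact (closedFibre_cond f hint hV ρ hρ _ _ htxy).imp
      (fun h ↦ ⟨t, ht, h⟩) (fun h ↦ ⟨1, q.asIdeal.primeCompl.one_mem, by rwa [one_mul]⟩)
  exact ⟨isDomain_of_closedFibre hP, fun b b' a₀ h0 h ↦ exists_eq_scalar_mul_unit hP h0 h⟩

/-- A point with integral local ring has a generization specializing to every generization. -/
theorem exists_generic_generization (z : X) [_root_.IsDomain (X.presheaf.stalk z)] :
    ∃ g : X, g ⤳ z ∧ ∀ w, w ⤳ z → g ⤳ w := by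
  let g := X.fromSpecStalk z (⊥ : PrimeSpectrum (X.presheaf.stalk z))
  have hrange : Set.range (X.fromSpecStalk z) = {w | w ⤳ z} := Scheme.range_fromSpecStalk
  refine ⟨g, hrange.le ⟨_, rfl⟩, fun w hw ↦ ?_⟩
  obtain ⟨p, rfl⟩ := hrange.ge hw
  exact ((PrimeSpectrum.le_iff_specializes ⊥ p).mp bot_le).map (X.fromSpecStalk z).continuous

include hint in
theorem isIntegral_of_closedFibre : IsIntegral X := by
  obtain ⟨φ, hφ⟩ := Spec.map_surjective
    ((Spec (CommRingCat.of A)).fromSpecResidueField (IsLocalRing.closedPoint A))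
  have : IsReduced X := by
    have : ∀ x : X, _root_.IsReduced (X.presheaf.stalk x) := by
      intro x
      obtain ⟨z, hz, hxz⟩ := exists_specializes_closedPoint f x
      have := (stalk_facts f hint z hz).1
      exact Groth.Agent.S0436.isReduced_stalk_of_specializes hxz inferInstance
    exact isReduced_of_isReduced_stalk X
  have := hint
  let ξ := f.fiberι (IsLocalRing.closedPoint A) (genericPoint (f.fiber (IsLocalRing.closedPoint A)))
  have hξ : f ξ = IsLocalRing.closedPoint A := (f.range_fiberι _).le ⟨_, rfl⟩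
  have := (stalk_facts f hint ξ hξ).1
  obtain ⟨g, -, hg⟩ := exists_generic_generization ξ
  have hgen : ∀ x, g ⤳ x := by
    intro x
    obtain ⟨z, hz, hxz⟩ := exists_specializes_closedPoint f x
    obtain ⟨z', rfl⟩ := (f.range_fiberι _).ge (show z ∈ f ⁻¹' {IsLocalRing.closedPoint A} from hz)
    have hξz : ξ ⤳ f.fiberι _ z' :=
      ((genericPoint_spec _).specializes (Set.mem_univ z')).map (f.fiberι _).continuous
    have := (stalk_facts f hint _ hz).1
    obtain ⟨g', -, hg'⟩ := exists_generic_generization (f.fiberι _ z')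
    exact (hg g' (hg' ξ hξz)).trans (hg' x hxz)
  have : IrreducibleSpace X := by
    refine irreducibleSpace_def _ |>.mpr ?_
    have h : closure ({g} : Set X) = Set.univ :=
      Set.eq_univ_of_forall fun x ↦ (hgen x).mem_closure
    show IsIrreducible (Set.univ : Set X)
    rw [← h]
    exact isIrreducible_singleton.closure
  exact isIntegral_of_irreducibleSpace_of_isReduced X

include hint in
/-- An invertible module trivial on the generic fibre is trivial. -/
theorem trivial_of_trivial_genericFibre (L : X.Modules) (hL : PicF.IsInvertible L)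
    (htriv : Nonempty ((Scheme.Modules.pullback
      (f.fiberι (genericPoint ↑(Spec (CommRingCat.of A))))).obj L ≅
      Coh.structureModule (f.fiber (genericPoint ↑(Spec (CommRingCat.of A)))))) :
    Nonempty (L ≅ Coh.structureModule X) := by
  have := isIntegral_of_closedFibre f hint
  have := hint
  let Y := Spec (CommRingCat.of A)
  have hsurj : Function.Surjective f := by
    intro y
    obtain ⟨z⟩ := (inferInstance : Nonempty (f.fiber (IsLocalRing.closedPoint A)))
    have hz : f (f.fiberι _ z) = IsLocalRing.closedPoint A := (f.range_fiberι _).le ⟨z, rfl⟩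
    obtain ⟨x, -, hx⟩ := Flat.generalizingMap f
      (show y ⤳ f (f.fiberι (IsLocalRing.closedPoint A) z) by
        rw [hz]; exact IsLocalRing.specializes_closedPoint y)
    exact ⟨x, hx⟩
  let η := genericPoint Y
  let ι := f.fiberι η
  have : Flat (Y.fromSpecResidueField η) := by
    letI := (isField_generic' Y).toField
    haveI : IsIso (Y.residue η) := (ConcreteCategory.isIso_iff_bijective _).2
      ⟨(Y.residue η).hom.injective, Y.residue_surjective η⟩
    unfold Scheme.fromSpecResidueField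
    infer_instance
  have : IsPreimmersion ι := inferInstanceAs (IsPreimmersion (pullback.fst f (Y.fromSpecResidueField η)))
  have : Flat ι := inferInstanceAs (Flat (pullback.fst f (Y.fromSpecResidueField η)))
  obtain ⟨ξ', hξ'⟩ := (f.range_fiberι η).ge
    (show genericPoint X ∈ f ⁻¹' {η} from map_genericPoint f hsurj)
  obtain ⟨θ⟩ := htriv
  obtain ⟨v₀, hv₀⟩ := exists_good_on_range ι θ
    (fun z => H8Props.bijective_stalkMap_of_flat ι z (Flat.stalkMap ι z)) hL ξ' hξ' fun z =>
      ι.isEmbedding.isInducing.specializes_iff.1 (by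
        erw [hξ']; exact (genericPoint_spec X).specializes trivial)
  have hv₀' : ∀ z, f z = η → Good L v₀ z := fun z hz => by
    obtain ⟨z', rfl⟩ := (f.range_fiberι η).ge (show z ∈ f ⁻¹' {η} from hz)
    exact hv₀ z'
  letI := (isField_generic' X).toField
  have hsK : ∀ (x : X) (c : A), c ≠ 0 → toK x (scalar f x c) ≠ 0 := by
    intro x c hc h
    have h1 : tau f hsurj (toK (f x) ((Spec (CommRingCat.of A)).presheaf.germ ⊤ (f x) trivial
        ((Scheme.ΓSpecIso (CommRingCat.of A)).inv c))) = 0 := by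
      rw [tau_toK]; exact h
    letI := (isField_generic' Y).toField
    rw [map_eq_zero, toK_germ, map_eq_zero_iff _ (germ_injective_of_isIntegral _ _ _),
      map_eq_zero_iff _ (ConcreteCategory.bijective_of_isIso _).1] at h1
    exact hc h1
  have hscal : ∀ (x x' : X), x ⤳ x' → ∀ a, toK x (scalar f x a) = toK x' (scalar f x' a) := by
    intro x x' hxx a
    simp only [scalar, RingHom.comp_apply]
    rw [← tau_toK f hsurj, ← tau_toK f hsurj, toK_germ, toK_germ]
  have hloc : ∀ z : X, f z = IsLocalRing.closedPoint A → ∃ c d : A, c ≠ 0 ∧ d ≠ 0 ∧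
      Good L ((toK z (scalar f z c) / toK z (scalar f z d)) • v₀) z := by
    intro z hz
    obtain ⟨v, hv⟩ := exists_good hL z
    obtain ⟨x₀, hx₀⟩ := hsurj η
    obtain ⟨φf, hf⟩ := (hv₀' x₀ hx₀).bijective_smul.2 v
    obtain ⟨g, hg⟩ := hv.bijective_smul.2 v₀
    have hf' : φf • v₀ = v := hf
    have hg' : g • v = v₀ := hg
    have hgf : φf * g = 1 := hv.bijective_smul.1
      (show (φf * g) • v = (1 : X.presheaf.stalk (genericPoint X)) • v by
        rw [one_smul, mul_smul, hg', hf'])
    obtain ⟨a, ha, b, hb⟩ := exists_denominator f z φf fun w hw hwη => by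
      obtain ⟨u, hu⟩ := (hv₀' w hwη).exists_unit (f := φf) (hf'.symm ▸ hv.of_specializes hw)
      exact ⟨u, hu⟩
    obtain ⟨a', ha', b', hb'⟩ := exists_denominator f z g fun w hw hwη => by
      obtain ⟨u, hu⟩ := (hv.of_specializes hw).exists_unit (f := g) (hg'.symm ▸ hv₀' w hwη)
      exact ⟨u, hu⟩
    obtain ⟨d, rfl⟩ := exists_germ_scalar (f z) hz a
    obtain ⟨d', rfl⟩ := exists_germ_scalar (f z) hz a'
    have hd : d ≠ 0 := fun h ↦ ha (by simp [h])
    have hd' : d' ≠ 0 := fun h ↦ ha' (by simp [h])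
    have hb2 : toK z (scalar f z d) * φf = toK z b := hb
    have hb2' : toK z (scalar f z d') * g = toK z b' := hb'
    have hbb : b * b' = scalar f z (d * d') := toK_injective z (by
      rw [map_mul, ← hb2, ← hb2', mul_mul_mul_comm, hgf, mul_one, map_mul, map_mul])
    obtain ⟨c, hc, u, hcu⟩ := (stalk_facts f hint z hz).2 b b' (d * d') (mul_ne_zero hd hd') hbb
    refine ⟨c, d, hc, hd, ?_⟩
    have h1 := hv.smul u⁻¹
    rw [← hf', ← mul_smul] at h1
    convert h1 using 2
    have hu1 : toK z (u : X.presheaf.stalk z) * toK z (↑u⁻¹ : X.presheaf.stalk z) = 1 := by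
      rw [← map_mul, Units.mul_inv, map_one]
    rw [div_eq_iff (hsK z d hd)]
    rw [hcu, map_mul] at hb2
    linear_combination (-(toK z (↑u⁻¹ : X.presheaf.stalk z))) * hb2
      - toK z (scalar f z c) * hu1
  let ξ := f.fiberι (IsLocalRing.closedPoint A) (genericPoint (f.fiber (IsLocalRing.closedPoint A)))
  have hξ : f ξ = IsLocalRing.closedPoint A := (f.range_fiberι _).le ⟨_, rfl⟩
  obtain ⟨c₀, d₀, hc₀, hd₀, hgood₀⟩ := hloc ξ hξ
  let v := (toK ξ (scalar f ξ c₀) / toK ξ (scalar f ξ d₀)) • v₀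
  have hall : ∀ x, Good L v x := by
    intro x
    obtain ⟨z, hz, hxz⟩ := exists_specializes_closedPoint f x
    refine Good.of_specializes hxz ?_
    obtain ⟨z', rfl⟩ := (f.range_fiberι _).ge (show z ∈ f ⁻¹' {IsLocalRing.closedPoint A} from hz)
    have hξz : ξ ⤳ f.fiberι _ z' :=
      ((genericPoint_spec _).specializes (Set.mem_univ z')).map (f.fiberι _).continuous
    obtain ⟨c, d, hc, hd, hgood⟩ := hloc _ hz
    rw [← hscal ξ _ hξz c, ← hscal ξ _ hξz d] at hgood
    let r := (toK ξ (scalar f ξ c₀) / toK ξ (scalar f ξ d₀)) /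
      (toK ξ (scalar f ξ c) / toK ξ (scalar f ξ d))
    have hr : r • ((toK ξ (scalar f ξ c) / toK ξ (scalar f ξ d)) • v₀) = v := by
      rw [← mul_smul, div_mul_cancel₀ _ (div_ne_zero (hsK ξ c hc) (hsK ξ d hd))]
    obtain ⟨u, hu⟩ := (hgood.of_specializes hξz).exists_unit (f := r) (hr.symm ▸ hgood₀)
    obtain ⟨e, he⟩ : ∃ e : Aˣ, scalar f ξ (c₀ * d) = scalar f ξ (d₀ * c) * scalar f ξ e ∧
        c₀ * d = d₀ * c * e := by
      letI : Algebra A (X.presheaf.stalk ξ) := (scalar f ξ).toAlgebra
      have e1 : scalar f ξ (c₀ * d) = scalar f ξ (d₀ * c) * (u : X.presheaf.stalk ξ) :=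
        toK_injective ξ (by
          rw [map_mul _ (scalar f ξ (d₀ * c)), hu, map_mul, map_mul, map_mul, map_mul]
          simp only [r]
          field_simp [hsK ξ c hc, hsK ξ d hd, hsK ξ d₀ hd₀])
      obtain ⟨V, hV, hξV, -⟩ := exists_isAffineOpen_mem_and_subset
        (show ξ ∈ (⊤ : X.Opens) from trivial)
      obtain ⟨ρ, hρ⟩ := Spec.map_surjective (hV.fromSpec ≫ f)
      have : IsLocalHom (algebraMap A (X.presheaf.stalk ξ)) := by
        constructor
        intro a ha
        haveI : IsLocalHom (f.stalkMap ξ).hom := f.toLRSHom.prop ξ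
        exact isUnit_of_germ_closedPoint (f ξ) hξ a (isUnit_of_map_unit (f.stalkMap ξ).hom _ ha)
      have : Module.Flat A (X.presheaf.stalk ξ) := by
        letI := TopCat.Presheaf.algebra_section_stalk X.presheaf (⟨ξ, hξV⟩ : V)
        have : Flat (Spec.map ρ) := by rw [hρ]; infer_instance
        have hρfl : ρ.hom.Flat := HasRingHomProperty.Spec_iff.mp ‹Flat (Spec.map ρ)›
        algebraize [ρ.hom]
        have : IsScalarTower A Γ(X, V) (X.presheaf.stalk ξ) :=
          IsScalarTower.of_algebraMap_eq fun a ↦ scalar_eq f hV hξV ρ hρ a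
        have := hV.isLocalization_stalk ⟨ξ, hξV⟩
        have : Module.Flat Γ(X, V) (X.presheaf.stalk ξ) :=
          IsLocalization.flat _ (hV.primeIdealOf ⟨ξ, hξV⟩).asIdeal.primeCompl
        exact Module.Flat.trans A Γ(X, V) _
      obtain ⟨e, he⟩ := isUnit_ratio (A := A) (B := X.presheaf.stalk ξ) u e1
      exact ⟨e, by rw [he, map_mul], he⟩
    have h1 := hgood.smul (e.map (scalar f (f.fiberι _ z')).toMonoidHom)
    convert h1 using 1
    rw [← mul_smul]
    show _ • v₀ = _
    congr 1
    show _ = toK _ (scalar f _ (e : A)) * _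
    rw [← hscal ξ _ hξz e]
    rw [mul_div_assoc', div_eq_div_iff (hsK ξ d₀ hd₀) (hsK ξ d hd), ← map_mul, ← map_mul,
      ← map_mul, ← map_mul, ← map_mul, ← map_mul, he.2]
    congr 2
    ring
  obtain ⟨m, hm, -⟩ := exists_frame (W := ⊤) (fun x _ => hall x)
  obtain ⟨φ', -⟩ := H11Ample.exists_iso_of_gen (fun _ : Unit => (⊤ : X.Opens))
    (fun x => ⟨(), trivial⟩) (fun _ => m) (fun _ => hm) (fun _ => H11Ample.one ⊤)
    (fun _ => H11Ample.isGen_one _) fun i j w hw => by
      have hw1 : w = 1 := (hm.bijective (inf_le_right : (⊤ : X.Opens) ⊓ ⊤ ≤ ⊤)).1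
        (hw.symm.trans (one_smul _ _).symm)
      rw [hw1, one_smul]
  exact ⟨φ'⟩

end Groth.Agent.H7Val
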